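-- Team project SPU (S2316, helper19), packages [TR1] and [TR2] (helper10):
-- transport of the counts along a congruence of symplectic forms (`X ↦ Q * X * P`).
import Mathlib
import Cfsg.Agent.Lib.Helper19.SPU.Defs

set_option autoImplicit false
open scoped Matrix

namespace Cfsg.Agent.Lib.Helper10.SPU

open Cfsg.Agent.Lib.Helper19.SPU Matrix

universe u

section

variable {F : Type u} [Field F] {n n' : Type} [Fintype n] [DecidableEq n] [Fintype n']
  [DecidableEq n']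

/-- congruence data: `P`, `Q` mutually inverse, `Pᵀ K P = K'` -/
structure Cg (P : Matrix n n' F) (Q : Matrix n' n F) (K : Matrix n n F) (K' : Matrix n' n' F) :
    Prop where
  hPQ : P * Q = 1
  hQP : Q * P = 1
  hK : Pᵀ * K * P = K'

variable {P : Matrix n n' F} {Q : Matrix n' n F} {K : Matrix n n F} {K' : Matrix n' n' F}

theorem Cg.symm (h : Cg P Q K K') : Cg Q P K' K := by
  refine ⟨h.hQP, h.hPQ, ?_⟩
  rw [← h.hK]
  have h1 : Qᵀ * Pᵀ = 1 := by rw [← Matrix.transpose_mul, h.hPQ, Matrix.transpose_one]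
  calc Qᵀ * (Pᵀ * K * P) * Q = (Qᵀ * Pᵀ) * K * (P * Q) := by simp only [Matrix.mul_assoc]
    _ = K := by rw [h1, h.hPQ, Matrix.one_mul, Matrix.mul_one]

theorem cj_mul (h : Cg P Q K K') (X Y : Matrix n n F) :
    (Q * X * P) * (Q * Y * P) = Q * (X * Y) * P := by
  calc (Q * X * P) * (Q * Y * P) = Q * X * (P * Q) * Y * P := by simp only [Matrix.mul_assoc]
    _ = Q * (X * Y) * P := by
      rw [h.hPQ, Matrix.mul_one]
      simp only [Matrix.mul_assoc]

theorem cj_inv (h : Cg P Q K K') (X : Matrix n n F) : P * (Q * X * P) * Q = X := by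
  calc P * (Q * X * P) * Q = (P * Q) * X * (P * Q) := by simp only [Matrix.mul_assoc]
    _ = X := by rw [h.hPQ, Matrix.one_mul, Matrix.mul_one]

theorem cj_one (h : Cg P Q K K') : Q * (1 : Matrix n n F) * P = 1 := by
  rw [Matrix.mul_one, h.hQP]

omit [DecidableEq n] [Fintype n'] [DecidableEq n'] in
theorem cj_add (P : Matrix n n' F) (Q : Matrix n' n F) (X Y : Matrix n n F) :
    Q * (X + Y) * P = Q * X * P + Q * Y * P := by
  rw [Matrix.mul_add, Matrix.add_mul]

theorem cj_sub_one (h : Cg P Q K K') (X : Matrix n n F) :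
    Q * X * P - 1 = Q * (X - 1) * P := by
  rw [Matrix.mul_sub, Matrix.sub_mul, cj_one h]

theorem cj_pow (h : Cg P Q K K') (X : Matrix n n F) (k : ℕ) :
    (Q * X * P) ^ k = Q * X ^ k * P := by
  induction k with
  | zero => rw [pow_zero, pow_zero, cj_one h]
  | succ k ih => rw [pow_succ, ih, cj_mul h, ← pow_succ]

theorem cj_rank (h : Cg P Q K K') (X : Matrix n n F) : (Q * X * P).rank = X.rank := by
  apply le_antisymm
  · exact (Matrix.rank_mul_le_left _ _).trans (Matrix.rank_mul_le_right _ _)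
  · calc X.rank = (P * (Q * X * P) * Q).rank := by rw [cj_inv h]
      _ ≤ (Q * X * P).rank := (Matrix.rank_mul_le_left _ _).trans (Matrix.rank_mul_le_right _ _)

theorem cj_unit (h : Cg P Q K K') (X : Matrix n n F) (hX : IsUnit X) : IsUnit (Q * X * P) := by
  obtain ⟨Y, h1, h2⟩ := isUnit_iff_exists.mp hX
  refine isUnit_iff_exists.mpr ⟨Q * Y * P, ?_, ?_⟩
  · rw [cj_mul h, h1, cj_one h]
  · rw [cj_mul h, h2, cj_one h]

theorem cj_unit_iff (h : Cg P Q K K') (X : Matrix n n F) : IsUnit X ↔ IsUnit (Q * X * P) :=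
  ⟨cj_unit h X, fun hX => by
    have := cj_unit h.symm _ hX
    rwa [cj_inv h] at this⟩

theorem cj_nilp (h : Cg P Q K K') (X : Matrix n n F) (hX : IsNilpotent X) :
    IsNilpotent (Q * X * P) := by
  obtain ⟨k, hk⟩ := hX
  exact ⟨k, by rw [cj_pow h, hk, Matrix.mul_zero, Matrix.zero_mul]⟩

theorem cj_nilp_iff (h : Cg P Q K K') (X : Matrix n n F) :
    IsNilpotent X ↔ IsNilpotent (Q * X * P) :=
  ⟨cj_nilp h X, fun hX => by
    have := cj_nilp h.symm _ hX
    rwa [cj_inv h] at this⟩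

theorem cj_affA (h : Cg P Q K K') (X : Matrix n n F) (hX : AffA K X) : AffA K' (Q * X * P) := by
  unfold AffA at hX ⊢
  rw [← h.hK]
  have h1 : Qᵀ * Pᵀ = 1 := by rw [← Matrix.transpose_mul, h.hPQ, Matrix.transpose_one]
  have a1 : (Q * X * P)ᵀ * (Pᵀ * K * P) = Pᵀ * (Xᵀ * K) * P := by
    rw [Matrix.transpose_mul, Matrix.transpose_mul]
    calc Pᵀ * (Xᵀ * Qᵀ) * (Pᵀ * K * P) = Pᵀ * Xᵀ * (Qᵀ * Pᵀ) * K * P := by
          simp only [Matrix.mul_assoc]
      _ = Pᵀ * (Xᵀ * K) * P := by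
          rw [h1, Matrix.mul_one]
          simp only [Matrix.mul_assoc]
  have a2 : Pᵀ * K * P * (Q * X * P) = Pᵀ * (K * X) * P := by
    calc Pᵀ * K * P * (Q * X * P) = Pᵀ * K * (P * Q) * X * P := by simp only [Matrix.mul_assoc]
      _ = Pᵀ * (K * X) * P := by
          rw [h.hPQ, Matrix.mul_one]
          simp only [Matrix.mul_assoc]
  have e : (Q * X * P)ᵀ * (Pᵀ * K * P) + Pᵀ * K * P * (Q * X * P) + Pᵀ * K * P =
      Pᵀ * (Xᵀ * K + K * X + K) * P := by
    rw [a1, a2, Matrix.mul_add, Matrix.mul_add, Matrix.add_mul, Matrix.add_mul]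
  rw [e, hX, Matrix.mul_zero, Matrix.zero_mul]

theorem cj_affA_iff (h : Cg P Q K K') (X : Matrix n n F) : AffA K X ↔ AffA K' (Q * X * P) :=
  ⟨cj_affA h X, fun hX => by
    have := cj_affA h.symm _ hX
    rwa [cj_inv h] at this⟩

theorem cj_isom (h : Cg P Q K K') (g : Matrix n n F) (hg : Isom K g) : Isom K' (Q * g * P) := by
  unfold Isom at hg ⊢
  rw [← h.hK]
  have h1 : Qᵀ * Pᵀ = 1 := by rw [← Matrix.transpose_mul, h.hPQ, Matrix.transpose_one]
  rw [Matrix.transpose_mul, Matrix.transpose_mul]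
  calc Pᵀ * (gᵀ * Qᵀ) * (Pᵀ * K * P) * (Q * g * P)
      = Pᵀ * gᵀ * (Qᵀ * Pᵀ) * K * (P * Q) * g * P := by simp only [Matrix.mul_assoc]
    _ = Pᵀ * (gᵀ * K * g) * P := by
        rw [h1, h.hPQ, Matrix.mul_one, Matrix.mul_one]
        simp only [Matrix.mul_assoc]
    _ = Pᵀ * K * P := by rw [hg]

theorem cj_isom_iff (h : Cg P Q K K') (g : Matrix n n F) : Isom K g ↔ Isom K' (Q * g * P) :=
  ⟨cj_isom h g, fun hX => by
    have := cj_isom h.symm _ hX
    rwa [cj_inv h] at this⟩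

theorem cj_M (h : Cg P Q K K') (X : Matrix n n F) :
    (Q * X * P) * (Q * X * P) + Q * X * P = Q * (X * X + X) * P := by
  rw [cj_mul h, cj_add]

/-- the bijection `X ↦ Q * X * P` -/
def cjEquiv (h : Cg P Q K K') : Matrix n n F ≃ Matrix n' n' F :=
  ⟨fun X => Q * X * P, fun Y => P * Y * Q, fun X => cj_inv h X, fun Y => cj_inv h.symm Y⟩

end

/-- [TR2] -/
theorem pkgTr2_of (hCong : PkgCong.{u}) : PkgTr2.{u} := by
  intro F _ _ n n' _ _ _ _ K K' hK hK' hcard
  obtain ⟨P, Q, hPQ, hQP, hKK⟩ := hCong F n n' K K' hK hK' hcard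
  have h : Cg P Q K K' := ⟨hPQ, hQP, hKK⟩
  refine ⟨?_, ?_, ?_, ?_⟩
  · exact Nat.card_congr ((cjEquiv h).subtypeEquiv (fun X => cj_affA_iff h X))
  · exact Nat.card_congr ((cjEquiv h).subtypeEquiv
      (fun X => and_congr (cj_affA_iff h X) (cj_unit_iff h X)))
  · refine Nat.card_congr ((cjEquiv h).subtypeEquiv
      (fun X => and_congr (cj_affA_iff h X) ?_))
    show IsNilpotent (X * X + X) ↔ IsNilpotent ((Q * X * P) * (Q * X * P) + Q * X * P)
    rw [cj_M h]
    exact cj_nilp_iff h _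
  · intro r
    refine Nat.card_congr ((cjEquiv h).subtypeEquiv
      (fun X => and_congr (cj_affA_iff h X) ?_))
    show ((X * X + X) ^ Fintype.card n).rank = r ↔
      (((Q * X * P) * (Q * X * P) + Q * X * P) ^ Fintype.card n').rank = r
    rw [cj_M h, cj_pow h, cj_rank h, hcard]

/-- [TR1] -/
theorem pkgTr1_of (hCong : PkgCong.{u}) : PkgTr1.{u} := by
  intro F _ _ n n' _ _ _ _ K K' hK hK' hcard
  obtain ⟨P, Q, hPQ, hQP, hKK⟩ := hCong F n n' K K' hK hK' hcard
  have h : Cg P Q K K' := ⟨hPQ, hQP, hKK⟩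
  refine ⟨?_, ?_, ?_, ?_⟩
  · exact Nat.card_congr ((cjEquiv h).subtypeEquiv (fun g => cj_isom_iff h g))
  · refine Nat.card_congr ((cjEquiv h).subtypeEquiv
      (fun g => and_congr (cj_isom_iff h g) ?_))
    show IsNilpotent (g - 1) ↔ IsNilpotent (Q * g * P - 1)
    rw [cj_sub_one h]
    exact cj_nilp_iff h _
  · refine Nat.card_congr ((cjEquiv h).subtypeEquiv
      (fun g => and_congr (cj_isom_iff h g) ?_))
    show IsUnit (g - 1) ↔ IsUnit (Q * g * P - 1)
    rw [cj_sub_one h]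
    exact cj_unit_iff h _
  · intro r
    refine Nat.card_congr ((cjEquiv h).subtypeEquiv
      (fun g => and_congr (cj_isom_iff h g) ?_))
    show ((g - 1) ^ Fintype.card n).rank = r ↔ ((Q * g * P - 1) ^ Fintype.card n').rank = r
    rw [cj_sub_one h, cj_pow h, cj_rank h, hcard]

end Cfsg.Agent.Lib.Helper10.SPU
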